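import Cfsg.Agent.Lib.Sporadic.McLInvol.Checks

/-! Elements of McL named by checked codes, and the bound on an involution centraliser. -/

set_option autoImplicit false

namespace CfsgLib.McLInvol

open Cfsg CfsgLib CfsgLib.Leech.Stab CfsgLib.FusionCertN CfsgLib.FusionCertN.LeechRep

attribute [local irreducible] code mulC idC app enc

theorem finite_mcl : Finite mclGroup := inferInstance

/-- The code of a group element. -/
noncomputable def ec (g : mclGroup) : ℕ := code (ρ g)

theorem ec_injective : Function.Injective ec := code_injective.comp ρ_injective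

theorem ec_mul (a b : mclGroup) : ec (a * b) = mulC (ec a) (ec b) := by
  rw [ec, map_mul, code_mul]; rfl

theorem ec_one : ec 1 = idC := by rw [ec, map_one, code_one]

theorem ec_app (g : mclGroup) (i : Fin 275) : app (ec g) i = ρ g i := app_code _ i

theorem eq_of_ec {a b c d : mclGroup} (h : mulC (ec a) (ec b) = mulC (ec c) (ec d)) : a * b = c * d :=
  ec_injective (by rw [ec_mul, ec_mul, h])

theorem elems_exist : ∀ c ∈ FusionCertN.McL.elems, ∃ g : mclGroup, ec g = c := by
  have hh : ∀ j < FusionCertN.McL.cert.hs.length, ∃ g : mclGroup, code (ρ g) = FusionCertN.McL.cert.hs.getD j 0 := by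
    intro j hj
    refine FusionCertN.McL.cert_mem _ (List.mem_append_left _ ?_)
    rw [List.getD_eq_getElem _ _ hj]
    exact List.getElem_mem hj
  let hΓ : ℕ → mclGroup := fun j => if hj : j < FusionCertN.McL.cert.hs.length then (hh j hj).choose else 1
  have hcode : ∀ j < FusionCertN.McL.cert.hs.length, code (ρ (hΓ j)) = FusionCertN.McL.cert.hs.getD j 0 := fun j hj => by
    simp only [hΓ, dif_pos hj]; exact (hh j hj).choose_spec
  have h := (seq_spec ρ ρ_injective runSeq hΓ hcode _ le_rfl).2.1
  intro c hc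
  refine h c ?_
  have hlen : FusionCertN.McL.elems.length ≤ 2 ^ FusionCertN.McL.cert.hs.length := by
    rw [sizes.2.1, FusionCertN.McL.cert_length]; norm_num
  rwa [List.take_of_length_le hlen]

theorem known_exist : ∀ c ∈ known, ∃ g : mclGroup, ec g = c := by
  refine lines_sound mLines known0 ?_ runLines
  intro c hc
  rcases List.mem_append.1 hc with hc | hc
  · have hb : slpB mcL275Slp = true := by
      have h := mcL275_base
      simp only [Cert.baseB, Bool.and_eq_true] at h
      exact h.1.1.1.1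
    simp only [List.mem_cons, List.not_mem_nil, or_false] at hc
    rcases hc with rfl | rfl
    · exact exists_gen hb (by rw [FusionCertN.McL.slp_length]; norm_num) FusionCertN.McL.genA_check
    · exact exists_gen hb (by rw [FusionCertN.McL.slp_length]; norm_num) FusionCertN.McL.genB_check
  · exact elems_exist c hc

theorem kc_exist {i : ℕ} (hi : i < 339) : ∃ g : mclGroup, ec g = kc i :=
  known_exist _ (by
    rw [kc, List.getD_eq_getElem _ _ (by rw [sizes.1]; exact hi)]
    exact List.getElem_mem _)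

theorem sy_exist {i : ℕ} (hi : i < 128) : ∃ g : mclGroup, ec g = sy i :=
  elems_exist _ (by
    rw [sy, List.getD_eq_getElem _ _ (by rw [sizes.2.1]; exact hi)]
    exact List.getElem_mem _)

/-- The order of a subgroup as an orbit length times the order of a point stabiliser. -/
theorem card_eq_orbit_mul {G α : Type*} [Group G] [Finite G] (φ : G →* Equiv.Perm α) (H : Subgroup G) (x : α) :
    Nat.card H = Nat.card ↥(H ⊓ (MulAction.stabilizer (Equiv.Perm α) x).comap φ) *
      (Set.range fun h : H => φ h.1 x).ncard := by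
  let act : MulAction H α := MulAction.compHom α (φ.comp H.subtype)
  have h := (MulAction.stabilizer H x).card_mul_index
  rw [MulAction.index_stabilizer] at h
  rw [← h]
  congr 1
  refine Nat.card_congr ⟨fun a => ⟨a.1.1, a.1.2, a.2⟩, fun a => ⟨⟨a.1, a.2.1⟩, a.2.2⟩, fun _ => rfl, fun _ => rfl⟩

theorem dot_pt (i j : Fin 275) :
    dotInt ((pt i).1 : GolayPt → ℤ) ((pt j).1 : GolayPt → ℤ) = dotP i j := by
  have hl : ∀ i : Fin 275, latB (nth i) = true := fun i => by
    have h := List.all_eq_true.1 codes_check.1 _ (nth_mem i.2)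
    simp only [Bool.and_eq_true] at h
    exact h.1.1
  exact dot_lat (hl i) (hl j)

/-- The base points. -/
def px : Fin 275 := ⟨bx, sizes.2.2.2.2.1⟩

/-- The second base point. -/
def py : Fin 275 := ⟨by0, sizes.2.2.2.2.2.1⟩

/-- The point stabiliser. -/
noncomputable def Gx : Subgroup mclGroup := (MulAction.stabilizer (Equiv.Perm (Fin 275)) px).comap ρ

/-- The two-point stabiliser. -/
noncomputable def Gxy : Subgroup mclGroup := Gx ⊓ (MulAction.stabilizer (Equiv.Perm (Fin 275)) py).comap ρ

theorem mem_Gx {g : mclGroup} : g ∈ Gx ↔ ρ g px = px := Iff.rfl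

theorem mem_Gxy {g : mclGroup} : g ∈ Gxy ↔ ρ g px = px ∧ ρ g py = py := Iff.rfl

theorem card_mcl : Nat.card mclGroup = 898128000 := isMcL.2

theorem count_filter (q : ℕ → Bool) {n : ℕ} (h : (List.range 275).countP q = n) :
    (Finset.univ.filter fun i : Fin 275 => q i = true).card = n := by
  rw [← countP_range_eq_card, h]

theorem mclSet_pt (i : Fin 275) : (pt i).1 ∈ mclSet ptU ptV := by
  obtain ⟨h1, h2, h3⟩ := mem_mcl.1 (pt i).2
  exact ⟨h1, (norm_sub_iff pt_dots.1 h1).2 h2, (dot_comm _ _).trans h3⟩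

theorem card_Gxy_le : Nat.card Gxy ≤ 20160 := by
  classical
  have h1 := card_eq_orbit_mul ρ (⊤ : Subgroup mclGroup) px
  have htrans : (Set.range fun h : (⊤ : Subgroup mclGroup) => ρ h.1 px) = Set.univ := by
    refine Set.eq_univ_iff_forall.2 fun i => ?_
    obtain ⟨g, hg, hgx⟩ := cert_transitive mcL275_base mcL275_tree mcL275_nodup mcL275_bound
      (pt px).2 (pt i).2
    let a : mclGroup := ⟨g, hg (_, 24) (by simp [mcL275Cert]), hg (_, 16) (by simp [mcL275Cert])⟩
    exact ⟨⟨a, Subgroup.mem_top _⟩, pt_injective ((ρ_apply a px).trans (Subtype.ext hgx))⟩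
  rw [htrans, Set.ncard_univ, Nat.card_fin, Subgroup.card_top, card_mcl, top_inf_eq] at h1
  have h2 := card_eq_orbit_mul ρ Gx py
  have hsub : ((Finset.univ.filter fun i : Fin 275 => (dotP bx i == 16) = true : Finset (Fin 275)) : Set (Fin 275)) ⊆
      Set.range fun h : Gx => ρ h.1 py := by
    intro i hi
    simp only [Finset.coe_filter, Finset.mem_univ, true_and, Set.mem_ofPred_eq, beq_iff_eq] at hi
    have hxy : dotP bx by0 = 16 := beq_iff_eq.1 runDot.1
    have hne : ∀ j : Fin 275, dotP bx j = 16 → (pt j).1 ≠ (pt px).1 := fun j hj e => by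
      have h := dot_pt px j
      rw [e, dotInt_self, (mem_mcl.1 (pt px).2).1] at h
      rw [show dotP (px : ℕ) j = 16 from hj] at h
      norm_num at h
    obtain ⟨g, gu, gv, gx, gy⟩ := (mcl_rank_three pt_dots.1 ⟨pt_dots.2.1, (norm_sub_iff pt_dots.1 pt_dots.2.1).2
      pt_dots.2.2.2.2.2.1⟩ (mclSet_pt px)).2.2 _ (mclSet_pt py) _ (mclSet_pt i)
      (hne py hxy) (hne i hi) (by rw [dot_pt, dot_pt]; exact hxy.trans hi.symm)
    let a : mclGroup := ⟨g, gu, gv⟩
    exact ⟨⟨a, pt_injective ((ρ_apply a px).trans (Subtype.ext gx))⟩,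
      pt_injective ((ρ_apply a py).trans (Subtype.ext gy))⟩
  have h162 : 162 ≤ (Set.range fun h : Gx => ρ h.1 py).ncard := by
    have := Set.ncard_le_ncard hsub
    rwa [Set.ncard_coe_finset, count_filter _ runDot.2.1] at this
  have h3 : Nat.card Gxy * 162 ≤ Nat.card Gx := h2 ▸ Nat.mul_le_mul_left _ h162
  have h4 : Nat.card Gx * 275 = 898128000 := h1.symm
  omega

theorem app_lt (c i : ℕ) : app c i < 512 := by
  unfold app; exact Nat.mod_lt _ (by norm_num)

theorem sigPts_lt : ∀ z ∈ sigPts, z < 275 := by decide +kernel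

theorem fix_mem {t : mclGroup} (ht : ec t = tC) (i : Fin 275) : ρ t i = i ↔ i.val ∈ fixL := by
  have h := runFix
  simp only [Bool.and_eq_true, List.all_eq_true, List.mem_range, Bool.or_eq_true, Bool.not_eq_true',
    ← Bool.not_eq_true, beq_iff_eq, List.contains_iff_mem, Nat.blt_eq] at h
  constructor
  · intro e
    have e' : app tC i = i := by rw [← ht, ec_app, e]
    exact (h.1 i i.2).resolve_left (not_not_intro e')
  · intro e
    have e' := (h.2 i e).2
    rw [← ht, ec_app] at e'
    exact Fin.ext e'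

theorem card_class {t : mclGroup} (ht : ec t = tC) :
    315 ≤ ((Subgroup.centralizer ({t} : Set mclGroup)).subgroupOf Gxy).index := by
  have hk : ∀ j < kG.length, ∃ g : Gxy, ec g.1 = kc (kG.getD j 0) := fun j hj => by
    have hm : kG.getD j 0 ∈ kG := by rw [List.getD_eq_getElem _ _ hj]; exact List.getElem_mem hj
    obtain ⟨g, hg⟩ := kc_exist (sizes.2.2.2.2.2.2.2.2.2.2.2.1 _ hm)
    have h := List.all_eq_true.1 runK _ hm
    rw [Bool.and_eq_true, beq_iff_eq, beq_iff_eq, ← hg] at h
    exact ⟨⟨g, mem_Gxy.2 ⟨Fin.ext ((ec_app g px).symm.trans h.1), Fin.ext ((ec_app g py).symm.trans h.2)⟩⟩, hg⟩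
  have hm : ∀ m < 315, ∃ q : Gxy, ∀ i < 275, app (ec (q.1 * t * q.1⁻¹)) i = app (conjL.getD m (0, 0, 0)).1 i := by
    intro m
    induction m using Nat.strong_induction_on with
    | _ m ih =>
      intro hm
      have h := List.all_eq_true.1 runConj m (List.mem_range.2 hm)
      by_cases h0 : m = 0
      · subst h0
        simp only [Nat.beq_refl, cond_true, beq_iff_eq] at h
        exact ⟨1, fun i _ => by rw [Subgroup.coe_one, one_mul, inv_one, mul_one, ht, h]⟩
      · have hb : Nat.beq m 0 = false := by rw [← Bool.not_eq_true, Nat.beq_eq]; exact h0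
        simp only [hb, cond_false, Bool.and_eq_true, Nat.blt_eq, beq_iff_eq] at h
        obtain ⟨⟨hp, hg⟩, he⟩ := h
        obtain ⟨q, hq⟩ := ih _ hp (hp.trans hm)
        obtain ⟨k, hk'⟩ := hk _ hg
        refine ⟨k * q, fun i hi => ?_⟩
        obtain ⟨j, hj⟩ : ∃ j : Fin 275, ρ k.1 j = ⟨i, hi⟩ := (ρ k.1).surjective _
        have e1 : (k * q : Gxy).1 * t * (k * q : Gxy).1⁻¹ * k.1 = k.1 * (q.1 * t * q.1⁻¹) := by
          rw [Subgroup.coe_mul]; group
        have e2 := congrArg ec e1
        rw [ec_mul, ec_mul k.1, hk'] at e2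
        have e3 : mulC (kc (kG.getD (conjL.getD m (0, 0, 0)).2.1 0)) (ec (q.1 * t * q.1⁻¹)) =
            mulC (conjL.getD m (0, 0, 0)).1 (kc (kG.getD (conjL.getD m (0, 0, 0)).2.1 0)) := by
          rw [← he]
          unfold mulC
          exact enc_congr fun l hl => by rw [hq l hl]
        have e4 := e2.trans e3
        unfold mulC at e4
        have e5 := congrArg (fun c => app c j) e4
        simp only [app_enc _ (fun _ => app_lt _ _) j.2] at e5
        rw [← hk', ec_app, hj] at e5
        exact e5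
  choose q hq using hm
  let D := (Subgroup.centralizer ({t} : Set mclGroup)).subgroupOf Gxy
  have h1 := Nat.card_le_card_of_injective (fun m : Fin 315 => ((q m.1 m.2 : Gxy) : Gxy ⧸ D)) ?_
  · rwa [Nat.card_fin, ← Subgroup.index_eq_card] at h1
  · intro a b e
    have e1 : (q a.1 a.2)⁻¹ * q b.1 b.2 ∈ D := QuotientGroup.eq.1 e
    have hc := Subgroup.mem_centralizer_singleton_iff.1 (Subgroup.mem_subgroupOf.1 e1)
    rw [Subgroup.coe_mul, Subgroup.coe_inv] at hc
    have hab : (q a.1 a.2).1 * t * (q a.1 a.2).1⁻¹ = (q b.1 b.2).1 * t * (q b.1 b.2).1⁻¹ := by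
      calc (q a.1 a.2).1 * t * (q a.1 a.2).1⁻¹ =
            (q a.1 a.2).1 * (t * ((q a.1 a.2).1⁻¹ * (q b.1 b.2).1)) * (q b.1 b.2).1⁻¹ := by group
        _ = _ := by rw [← hc]; group
    have he : ∀ z < 275, app (conjL.getD a.1 (0, 0, 0)).1 z = app (conjL.getD b.1 (0, 0, 0)).1 z := fun z hz => by
      rw [← hq a.1 a.2 z hz, ← hq b.1 b.2 z hz, hab]
    have hl : conjL.length = 315 := sizes.2.2.2.2.2.2.2.2.2.1
    have e2 : (conjL.map fun c => sigPts.map fun z => app c.1 z)[a.1]'(by simp [hl]) =
        (conjL.map fun c => sigPts.map fun z => app c.1 z)[b.1]'(by simp [hl]) := by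
      simp only [List.getElem_map]
      rw [List.getD_eq_getElem _ _ (by omega), List.getD_eq_getElem _ _ (by omega)] at he
      exact List.map_congr_left fun z hz => he z (sigPts_lt z hz)
    exact Fin.ext (conj_nodup.getElem_inj_iff.1 e2)

end CfsgLib.McLInvol
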