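import Cfsg.Agent.Lib.FusionCertN.McL
import Cfsg.Agent.Lib.Sporadic.McLInvol.Data

/-! Kernel checks on the tables of the involution centraliser of McL. -/

set_option autoImplicit false
set_option maxRecDepth 100000

namespace CfsgLib.McLInvol

open Cfsg CfsgLib CfsgLib.Leech.Stab CfsgLib.FusionCertN CfsgLib.FusionCertN.LeechRep

/-- The codes known to name group elements at the start. -/
def known0 : List ℕ := [FusionCertN.McL.genA, FusionCertN.McL.genB] ++ FusionCertN.McL.elems

/-- All codes known to name group elements. -/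
def known : List ℕ := known0 ++ mLines.map fun e => e.2.2

/-- A known code. -/
def kc (i : ℕ) : ℕ := known.getD i 0

/-- An element of the Sylow table. -/
def sy (i : ℕ) : ℕ := FusionCertN.McL.elems.getD i 0

/-- The code of the involution. -/
def tC : ℕ := sy ti

/-- A generator of the Sylow table. -/
def hsC (i : ℕ) : ℕ := FusionCertN.McL.cert.hs.getD i 0

theorem runLines : linesB known0 mLines = true := by decide +kernel

theorem sizes : known.length = 339 ∧ FusionCertN.McL.elems.length = 128 ∧ ti < 128 ∧ sqi < 128 ∧ bx < 275 ∧ by0 < 275 ∧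
    fixL.length = 35 ∧ labL.length = 35 ∧ cG.length = 3 ∧ conjL.length = 315 ∧
    (∀ i ∈ cG, i < 339) ∧ (∀ i ∈ kG, i < 339) ∧ FusionCertN.McL.cert.L = FusionCertN.McL.elems := by
  refine ⟨?_, ?_, ?_, ?_, ?_, ?_, ?_, ?_, ?_, ?_, ?_, ?_, rfl⟩ <;> decide +kernel

theorem runT : (mulC tC tC == idC && !(tC == idC) && mulC (sy sqi) (sy sqi) == tC) = true := by decide +kernel

theorem runFix : ((List.range 275).all (fun i => !(app tC i == i) || fixL.contains i) &&
    fixL.all (fun i => Nat.blt i 275 && app tC i == i)) = true := by decide +kernel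

theorem fix_nodup : fixL.Nodup := by decide +kernel

/-- The image of a generator. -/
def pImg (j : ℕ) : Equiv.Perm (Fin 8) := if j = 0 then p0 else if j = 1 then p1 else p2

theorem runAct : ((List.range 3).all fun j => mulC (kc (cG.getD j 0)) tC == mulC tC (kc (cG.getD j 0)) &&
    (List.range 35).all fun k => Nat.blt ((actL.getD j []).getD k 0) 35 &&
      app (kc (cG.getD j 0)) (fixL.getD k 0) == fixL.getD ((actL.getD j []).getD k 0) 0) = true := by
  decide +kernel

theorem runLab : ∀ j : Fin 3, ∀ k : Fin 35,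
    (labL.getD k.val ∅).image (pImg j.val) = labL.getD ((actL.getD j.val []).getD k.val 0) ∅ ∨
      (labL.getD k.val ∅).image (pImg j.val) = (labL.getD ((actL.getD j.val []).getD k.val 0) ∅)ᶜ := by
  decide +kernel

theorem lab_card : ∀ k : Fin 35, (labL.getD k.val ∅).card = 4 := by decide +kernel

theorem lab_cover : ∀ s : Finset (Fin 8), s.card = 4 →
    ∃ k : Fin 35, s = labL.getD k.val ∅ ∨ s = (labL.getD k.val ∅)ᶜ := by decide +kernel

theorem lab_inj : ∀ k l : Fin 35, (labL.getD k.val ∅ = labL.getD l.val ∅ ∨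
    labL.getD k.val ∅ = (labL.getD l.val ∅)ᶜ) → k = l := by decide +kernel

theorem pImg_sign : ∀ j : Fin 3, Equiv.Perm.sign (pImg j.val) = 1 := by decide +kernel

theorem p0_cycle : p0 ^ 7 = 1 ∧ (∀ i : Fin 8, ∃ n : Fin 7,
    (p0 ^ n.val) 0 = i ∨ (p0 ^ n.val * p2) 0 = i ∨ (p2 * p0 ^ n.val) 0 = i) := by
  constructor
  · decide +kernel
  · decide +kernel

theorem p1_three : p1.support.card = 3 := by decide +kernel

theorem p0_support : p0.support.card = 7 := by decide +kernel

/-- The scalar product of two points. -/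
def dotP (i j : ℕ) : ℤ := dotZ (dig 24 (nth i)) (dig 24 (nth j))

theorem runDot : (dotP bx by0 == 16) = true ∧ (List.range 275).countP (fun i => dotP bx i == 16) = 162 ∧
    fixL.countP (fun i => dotP bx i == 16) = 18 ∧ fixL.contains bx = true ∧ fixL.contains by0 = true := by
  decide +kernel

theorem runK : (kG.all fun i => app (kc i) bx == bx && app (kc i) by0 == by0) = true := by decide +kernel

theorem runConj : ((List.range 315).all fun m =>
    bif Nat.beq m 0 then (conjL.getD m (0, 0, 0)).1 == tC
    else Nat.blt (conjL.getD m (0, 0, 0)).2.2 m && Nat.blt (conjL.getD m (0, 0, 0)).2.1 kG.length &&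
      mulC (kc (kG.getD (conjL.getD m (0, 0, 0)).2.1 0)) (conjL.getD (conjL.getD m (0, 0, 0)).2.2 (0, 0, 0)).1 ==
        mulC (conjL.getD m (0, 0, 0)).1 (kc (kG.getD (conjL.getD m (0, 0, 0)).2.1 0))) = true := by
  decide +kernel

theorem conj_nodup : (conjL.map fun c => sigPts.map fun q => app c.1 q).Nodup := by decide +kernel

theorem runWit : ((List.range witL.length).all fun m =>
    Nat.blt (witL.getD m (0, 0, 0, 0)).1 128 &&
    bif Nat.beq (witL.getD m (0, 0, 0, 0)).2.2.1 0 then
      Nat.blt (witL.getD m (0, 0, 0, 0)).2.1 339 &&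
        mulC (kc (witL.getD m (0, 0, 0, 0)).2.1) tC ==
          mulC (sy (witL.getD m (0, 0, 0, 0)).1) (kc (witL.getD m (0, 0, 0, 0)).2.1)
    else
      Nat.blt (witL.getD m (0, 0, 0, 0)).2.2.2 m && Nat.ble (witL.getD m (0, 0, 0, 0)).2.2.1 7 &&
        mulC (hsC ((witL.getD m (0, 0, 0, 0)).2.2.1 - 1)) (sy (witL.getD (witL.getD m (0, 0, 0, 0)).2.2.2 (0, 0, 0, 0)).1) ==
          mulC (sy (witL.getD m (0, 0, 0, 0)).1) (hsC ((witL.getD m (0, 0, 0, 0)).2.2.1 - 1))) = true := by
  decide +kernel

theorem runCover : ((List.range 128).all fun k => sy k == idC || !(mulC (sy k) (sy k) == idC) ||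
    (witL.map fun w => w.1).contains k) = true := by decide +kernel

theorem runSeq : seqCheck FusionCertN.McL.cert.hs FusionCertN.McL.elems = true := by decide +kernel

end CfsgLib.McLInvol
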