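import Cfsg.Agent.Lib.Sporadic.McLInvol.Base
import Cfsg.Agent.Lib.AltTwoGen.Basic
import Cfsg.Prelude.Def_SporadicB
import Mathlib.GroupTheory.SpecificGroups.Alternating.Simple
import Mathlib.GroupTheory.GroupAction.Jordan

/-! The involutions of McL and their centralisers. -/

set_option autoImplicit false

namespace CfsgLib.McLInvol

open Cfsg CfsgLib CfsgLib.Leech.Stab CfsgLib.FusionCertN CfsgLib.FusionCertN.LeechRep

attribute [local irreducible] code mulC idC app enc

/-- A fixed point by its position. -/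
def fp (k : Fin 35) : ℕ := fixL.getD k.val 0

theorem fp_injective : Function.Injective fp := fun k l h => by
  have hk : k.val < fixL.length := by rw [sizes.2.2.2.2.2.2.1]; exact k.2
  have hl : l.val < fixL.length := by rw [sizes.2.2.2.2.2.2.1]; exact l.2
  unfold fp at h
  rw [List.getD_eq_getElem _ _ hk, List.getD_eq_getElem _ _ hl] at h
  exact Fin.ext (fix_nodup.getElem_inj_iff.1 h)

theorem fp_lt (k : Fin 35) : fp k < 275 := by
  have h : ∀ k : Fin 35, Nat.blt (fp k) 275 = true := by decide +kernel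
  exact Nat.blt_eq.mp (h k)

/-- A fixed point. -/
def fpt (k : Fin 35) : Fin 275 := ⟨fp k, fp_lt k⟩

/-- The set attached to a fixed point. -/
def lab (k : Fin 35) : Finset (Fin 8) := labL.getD k.val ∅

/-- An element and a permutation of eight points are compatible. -/
def Rel (g : mclGroup) (p : Equiv.Perm (Fin 8)) : Prop :=
  ∀ k, ∃ l, ρ g (fpt k) = fpt l ∧ ((lab k).image p = lab l ∨ (lab k).image p = (lab l)ᶜ)

theorem image_compl_perm (p : Equiv.Perm (Fin 8)) (s : Finset (Fin 8)) : sᶜ.image p = (s.image p)ᶜ :=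
  Finset.ext fun x => by
    obtain ⟨y, rfl⟩ := p.surjective x
    simp

theorem rel_mul {g h : mclGroup} {p q : Equiv.Perm (Fin 8)} (hg : Rel g p) (hh : Rel h q) : Rel (g * h) (p * q) := by
  intro k
  obtain ⟨l, hl, hl'⟩ := hh k
  obtain ⟨m, hm, hm'⟩ := hg l
  refine ⟨m, by rw [map_mul, Equiv.Perm.mul_apply, hl, hm], ?_⟩
  rw [Equiv.Perm.coe_mul, ← Finset.image_image]
  rcases hl' with e | e <;> rw [e]
  · exact hm'
  · rw [image_compl_perm]
    rcases hm' with e' | e' <;> rw [e']
    · exact Or.inr rfl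
    · exact Or.inl (compl_compl _)

theorem rel_one : Rel 1 1 := fun k =>
  ⟨k, by rw [map_one]; rfl, Or.inl (by rw [Equiv.Perm.coe_one, Finset.image_id])⟩

theorem rel_inv {g : mclGroup} {p : Equiv.Perm (Fin 8)} (hg : Rel g p) : Rel g⁻¹ p⁻¹ := by
  intro k
  choose f hf hf' using hg
  have hinj : Function.Injective f := fun a b e =>
    fp_injective (congrArg Fin.val ((ρ g).injective ((hf a).trans ((congrArg fpt e).trans (hf b).symm))))
  obtain ⟨l, rfl⟩ := (Finite.injective_iff_surjective.1 hinj) k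
  refine ⟨l, by rw [map_inv, ← hf l]; exact Equiv.symm_apply_apply _ _, ?_⟩
  rcases hf' l with e | e
  · left
    rw [← e, Finset.image_image, ← Equiv.Perm.coe_mul, inv_mul_cancel, Equiv.Perm.coe_one, Finset.image_id]
  · right
    rw [← compl_compl (lab (f l)), ← e, image_compl_perm, Finset.image_image, ← Equiv.Perm.coe_mul,
      inv_mul_cancel, Equiv.Perm.coe_one, Finset.image_id]

theorem rel_one_left {p : Equiv.Perm (Fin 8)} (h : Rel 1 p) (k : Fin 35) :
    (lab k).image p = lab k ∨ (lab k).image p = (lab k)ᶜ := by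
  obtain ⟨l, hl, hl'⟩ := h k
  rw [map_one, Equiv.Perm.one_apply] at hl
  obtain rfl : k = l := fp_injective (congrArg Fin.val hl)
  exact hl'

/-- Only the identity preserves all partitions. -/
theorem eq_one_of_rel {p : alternatingGroup (Fin 8)} (h : Rel 1 p.1) : p = 1 := by
  let N : Subgroup (alternatingGroup (Fin 8)) :=
    { carrier := {q | Rel 1 q.1}
      one_mem' := rel_one
      mul_mem' := fun {a b} ha hb => by
        show Rel 1 (a.1 * b.1)
        rw [← one_mul (1 : mclGroup)]; exact rel_mul ha hb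
      inv_mem' := fun {a} ha => by
        show Rel 1 a.1⁻¹
        rw [← inv_one (G := mclGroup)]; exact rel_inv ha }
  have hN : N.Normal := ⟨fun a ha q => by
    intro k
    refine ⟨k, by rw [map_one]; rfl, ?_⟩
    show (lab k).image (⇑(q.1 * a.1 * q.1⁻¹ : Equiv.Perm (Fin 8))) = lab k ∨
      (lab k).image (⇑(q.1 * a.1 * q.1⁻¹ : Equiv.Perm (Fin 8))) = (lab k)ᶜ
    obtain ⟨l, hl⟩ := lab_cover ((lab k).image (⇑(q.1⁻¹ : Equiv.Perm (Fin 8))))
      (by rw [Finset.card_image_of_injective _ (Equiv.injective _)]; exact lab_card k)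
    have hq : lab k = ((lab k).image (⇑(q.1⁻¹ : Equiv.Perm (Fin 8)))).image q.1 := by
      rw [Finset.image_image, ← Equiv.Perm.coe_mul, mul_inv_cancel, Equiv.Perm.coe_one, Finset.image_id]
    rw [Equiv.Perm.coe_mul, Equiv.Perm.coe_mul, ← Finset.image_image, ← Finset.image_image]
    rcases hl with hl | hl <;> rcases rel_one_left ha l with e | e
    · left; conv_rhs => rw [hq]
      rw [hl, show (labL.getD l.val ∅) = lab l from rfl, e]
    · right; conv_rhs => rw [hq]
      rw [hl, show (labL.getD l.val ∅) = lab l from rfl, e, image_compl_perm]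
    · left; conv_rhs => rw [hq]
      rw [hl, show (labL.getD l.val ∅) = lab l from rfl, image_compl_perm a.1, e]
    · right; conv_rhs => rw [hq]
      rw [hl, show (labL.getD l.val ∅) = lab l from rfl, image_compl_perm a.1, e, compl_compl, image_compl_perm,
        compl_compl]⟩
  have := alternatingGroup.isSimpleGroup (α := Fin 8) (by rw [Nat.card_fin]; norm_num)
  rcases hN.eq_bot_or_eq_top with e | e
  · exact Subgroup.mem_bot.1 (e ▸ (h : p ∈ N))
  · exfalso
    have hmem : (⟨pImg 1, Equiv.Perm.mem_alternatingGroup.2 (pImg_sign 1)⟩ : alternatingGroup (Fin 8)) ∈ N :=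
      e ▸ Subgroup.mem_top _
    have hdec : ∃ k : Fin 35, ¬ ((lab k).image (pImg 1) = lab k ∨ (lab k).image (pImg 1) = (lab k)ᶜ) := by
      decide +kernel
    obtain ⟨k, hk⟩ := hdec
    exact hk (rel_one_left hmem k)

theorem closure_pImg : ∀ H : Subgroup (Equiv.Perm (Fin 8)), (∀ j : Fin 3, pImg j.val ∈ H) →
    alternatingGroup (Fin 8) ≤ H := by
  intro H hH
  have h0 : p0 ∈ H := hH 0
  have h1 : p1 ∈ H := hH 1
  have h2 : p2 ∈ H := hH 2
  have : MulAction.IsPretransitive H (Fin 8) := by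
    have key : ∀ i : Fin 8, ∃ g : H, g • (0 : Fin 8) = i := fun i => by
      obtain ⟨n, hn | hn | hn⟩ := p0_cycle.2 i
      · exact ⟨⟨_, H.pow_mem h0 n⟩, hn⟩
      · exact ⟨⟨_, H.mul_mem (H.pow_mem h0 n) h2⟩, hn⟩
      · exact ⟨⟨_, H.mul_mem h2 (H.pow_mem h0 n)⟩, hn⟩
    refine ⟨fun a b => ?_⟩
    obtain ⟨g, rfl⟩ := key a
    obtain ⟨g', rfl⟩ := key b
    exact ⟨g' * g⁻¹, by rw [mul_smul, inv_smul_smul]⟩
  have hc : p0.IsCycle := by
    have : Fact (Nat.Prime 7) := ⟨by norm_num⟩
    have ho : orderOf p0 = 7 := orderOf_eq_prime (p := 7) p0_cycle.1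
      (fun e => by have := p0_support; rw [e, Equiv.Perm.support_one] at this; simp at this)
    exact Equiv.Perm.isCycle_of_prime_order (by rw [ho]; norm_num) (by rw [ho, p0_support]; norm_num)
  have hp := AltTwoGen.isPreprimitive_of_cycle H hc h0 (by rw [p0_support]; norm_num)
    (by rw [p0_support, Fintype.card_fin]; norm_num)
  exact Equiv.Perm.alternatingGroup_le_of_isPreprimitive_of_isThreeCycle_mem hp
    (card_support_eq_three_iff.1 p1_three) h1

theorem exists_t : ∃ t : mclGroup, ec t = tC ∧ t * t = 1 ∧ t ≠ 1 ∧ ∃ g : mclGroup, g * g = t := by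
  obtain ⟨t, ht⟩ := sy_exist sizes.2.2.1
  obtain ⟨g, hg⟩ := sy_exist sizes.2.2.2.1
  have h := runT
  simp only [Bool.and_eq_true, beq_iff_eq, Bool.not_eq_true', ← Bool.not_eq_true] at h
  refine ⟨t, ht, ec_injective (by rw [ec_mul, ht, ec_one]; exact h.1.1), fun e => h.1.2 ?_,
    g, ec_injective (by rw [ec_mul, hg, ht]; exact h.2)⟩
  rw [← ec_one, ← e]; exact ht.symm

theorem card_centralizer_le {t : mclGroup} (ht : ec t = tC) :
    Nat.card (Subgroup.centralizer ({t} : Set mclGroup)) ≤ 40320 := by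
  classical
  set C := Subgroup.centralizer ({t} : Set mclGroup) with hC
  have hfix : ∀ c ∈ C, ∀ i : Fin 275, i.val ∈ fixL → (ρ c i).val ∈ fixL := fun c hc i hi => by
    rw [← fix_mem ht] at hi ⊢
    rw [← Equiv.Perm.mul_apply, ← map_mul, ← Subgroup.mem_centralizer_singleton_iff.1 hc, map_mul,
      Equiv.Perm.mul_apply, hi]
  have hbx : px.val ∈ fixL := List.contains_iff_mem.1 runDot.2.2.2.1
  have hby : py.val ∈ fixL := List.contains_iff_mem.1 runDot.2.2.2.2
  have hcard : ∀ (s : Set (Fin 275)) (l : List ℕ), (∀ i ∈ s, i.val ∈ l) → s.ncard ≤ l.length := by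
    intro s l h
    rw [← Set.ncard_image_of_injective s Fin.val_injective]
    refine (Set.ncard_le_ncard (t := (l.toFinset : Set ℕ)) ?_).trans
      ((Set.ncard_coe_finset _).trans_le (List.toFinset_card_le l))
    rintro _ ⟨i, hi, rfl⟩
    exact List.mem_toFinset.2 (h i hi)
  have h1 := card_eq_orbit_mul ρ C px
  have h2 := card_eq_orbit_mul ρ (C ⊓ Gx) py
  have ho1 : (Set.range fun h : C => ρ h.1 px).ncard ≤ 35 := by
    refine (hcard _ fixL ?_).trans sizes.2.2.2.2.2.2.1.le
    rintro _ ⟨c, rfl⟩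
    exact hfix c.1 c.2 px hbx
  have ho2 : (Set.range fun h : (C ⊓ Gx : Subgroup mclGroup) => ρ h.1 py).ncard ≤ 18 := by
    refine (hcard _ (fixL.filter fun i => dotP bx i == 16) ?_).trans
      ((List.countP_eq_length_filter (l := fixL)).symm.trans runDot.2.2.1).le
    rintro _ ⟨c, rfl⟩
    refine List.mem_filter.2 ⟨hfix c.1 c.2.1 py hby, beq_iff_eq.2 ?_⟩
    have e := dot_pt (ρ c.1 px) (ρ c.1 py)
    rw [ρ_apply, ρ_apply] at e
    rw [show (ρ c.1 px : Fin 275) = px from c.2.2] at e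
    refine e.symm.trans ?_
    show dotInt ((c.1.1 • (pt px).1 : leechLattice) : GolayPt → ℤ) ((c.1.1 • (pt py).1 : leechLattice) : GolayPt → ℤ) = 16
    rw [Leech.dotInt_smul, dot_pt]
    exact beq_iff_eq.1 runDot.1
  have h3 : Nat.card ↥((C ⊓ Gx) ⊓ (MulAction.stabilizer (Equiv.Perm (Fin 275)) py).comap ρ) ≤ 64 := by
    rw [inf_assoc, ← Gxy]
    have e : Nat.card ↥(C ⊓ Gxy) = Nat.card (C.subgroupOf Gxy) :=
      Nat.card_congr ⟨fun a => ⟨⟨a.1, a.2.2⟩, a.2.1⟩, fun a => ⟨a.1.1, a.2, a.1.2⟩, fun _ => rfl, fun _ => rfl⟩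
    rw [e]
    have h := (C.subgroupOf Gxy).card_mul_index
    have h' : Nat.card (C.subgroupOf Gxy) * 315 ≤ 20160 :=
      (Nat.mul_le_mul_left _ (card_class ht)).trans (h.le.trans card_Gxy_le)
    exact Nat.le_of_mul_le_mul_right (le_of_le_of_eq h' (by norm_num)) (by norm_num : 0 < 315)
  calc Nat.card C = _ := h1
    _ = Nat.card ↥(C ⊓ Gx) * _ := rfl
    _ = _ * _ * _ := by rw [h2]
    _ ≤ 64 * 18 * 35 := Nat.mul_le_mul (Nat.mul_le_mul h3 ho2) ho1
    _ = 40320 := by norm_num

theorem involutions_conj {t : mclGroup} (ht : ec t = tC) {x : mclGroup} (hx : orderOf x = 2) : IsConj t x := by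
  have : Fact (Nat.Prime 2) := ⟨Nat.prime_two⟩
  have hh : ∀ j < FusionCertN.McL.cert.hs.length, ∃ g : mclGroup, ec g = hsC j := by
    intro j hj
    refine FusionCertN.McL.cert_mem _ (List.mem_append_left _ ?_)
    rw [hsC, List.getD_eq_getElem _ _ hj]
    exact List.getElem_mem hj
  choose hΓ' hcode' using hh
  let hΓ : ℕ → mclGroup := fun j => if hj : j < FusionCertN.McL.cert.hs.length then hΓ' j hj else 1
  have hcode : ∀ j < FusionCertN.McL.cert.hs.length, ec (hΓ j) = hsC j := fun j hj => by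
    simp only [hΓ, dif_pos hj]; exact hcode' j hj
  obtain ⟨hmem, -, hcard⟩ := seq_spec ρ ρ_injective runSeq hΓ hcode _ le_rfl
  rw [FusionCertN.McL.cert_length] at hmem hcard
  have hlen : FusionCertN.McL.elems.length ≤ 2 ^ 7 := by rw [sizes.2.1]; norm_num
  have hfac : (Nat.card mclGroup).factorization 2 = 7 := by
    rw [card_mcl, show (898128000 : ℕ) = 2 ^ 7 * 7016625 by norm_num, Nat.factorization_mul (by norm_num) (by norm_num),
      Finsupp.add_apply, Nat.prime_two.factorization_pow, Finsupp.single_eq_same,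
      Nat.factorization_eq_zero_of_not_dvd (by norm_num : ¬ 2 ∣ 7016625)]
  let P : Sylow 2 mclGroup := Sylow.ofCard (seqSubgroup hΓ 7) (by rw [hcard, hfac])
  obtain ⟨R, hR⟩ := IsPGroup.exists_le_sylow (IsPGroup.of_card (G := Subgroup.zpowers x) (p := 2) (n := 1)
    (by rw [Nat.card_zpowers, hx, pow_one]))
  obtain ⟨g, hg⟩ := MulAction.exists_smul_eq mclGroup P R
  have hxR : x ∈ R := hR (Subgroup.mem_zpowers x)
  have hx' : g⁻¹ * x * g ∈ seqSubgroup hΓ 7 := by
    rw [← hg] at hxR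
    obtain ⟨s, hs, he⟩ := hxR
    have : s = g⁻¹ * x * g := by rw [← he]; simp [mul_assoc]
    exact this ▸ hs
  generalize hy : g⁻¹ * x * g = y at hx'
  have hxy : IsConj y x := isConj_iff.2 ⟨g, by rw [← hy]; group⟩
  refine IsConj.trans ?_ hxy
  have hy1 : y ≠ 1 := fun e => by
    rw [e] at hxy; rw [isConj_one_right.1 hxy, orderOf_one] at hx; omega
  have hy2 : y * y = 1 := by
    have : x * x = 1 := by rw [← pow_two, ← hx]; exact pow_orderOf_eq_one x
    rw [← hy]; calc g⁻¹ * x * g * (g⁻¹ * x * g) = g⁻¹ * (x * x) * g := by group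
      _ = 1 := by rw [this]; group
  have hc : ec y ∈ FusionCertN.McL.elems := by
    have := (hmem y).1 hx'
    rwa [List.take_of_length_le hlen] at this
  obtain ⟨k, hk, hke⟩ := List.getElem_of_mem hc
  have hk' : sy k = ec y := by rw [sy, List.getD_eq_getElem _ _ hk, hke]
  rw [sizes.2.1] at hk
  have hcov := List.all_eq_true.1 runCover k (List.mem_range.2 hk)
  simp only [Bool.or_eq_true, Bool.not_eq_true', ← Bool.not_eq_true, beq_iff_eq, List.contains_iff_mem,
    hk', ← ec_one, ← ec_mul, hy2, not_true_eq_false, or_false, ec_injective.eq_iff, hy1, false_or] at hcov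
  have key : ∀ m < witL.length, ∀ z : mclGroup, ec z = sy (witL.getD m (0, 0, 0, 0)).1 → IsConj t z := by
    intro m
    induction m using Nat.strong_induction_on with
    | _ m ih =>
      intro hm z hz
      have h := List.all_eq_true.1 runWit m (List.mem_range.2 hm)
      rw [Bool.and_eq_true] at h
      obtain ⟨-, h⟩ := h
      by_cases hr : (witL.getD m (0, 0, 0, 0)).2.2.1 = 0
      · rw [hr, Nat.beq_refl, cond_true, Bool.and_eq_true, Nat.blt_eq, beq_iff_eq] at h
        obtain ⟨w, hw⟩ := kc_exist h.1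
        refine isConj_iff.2 ⟨w, ?_⟩
        have e := h.2
        rw [← hw, ← ht, ← hz] at e
        rw [eq_of_ec e, mul_inv_cancel_right]
      · have hb : Nat.beq (witL.getD m (0, 0, 0, 0)).2.2.1 0 = false := by
          rw [← Bool.not_eq_true, Nat.beq_eq]; exact hr
        simp only [hb, cond_false, Bool.and_eq_true, Nat.blt_eq, Nat.ble_eq, beq_iff_eq] at h
        obtain ⟨⟨hp, h7⟩, he⟩ := h
        obtain ⟨zp, hzp⟩ := sy_exist (i := (witL.getD (witL.getD m (0, 0, 0, 0)).2.2.2 (0, 0, 0, 0)).1) (by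
          have h' := List.all_eq_true.1 runWit _ (List.mem_range.2 (hp.trans hm))
          rw [Bool.and_eq_true, Nat.blt_eq] at h'
          exact h'.1)
        refine (ih _ hp (hp.trans hm) zp hzp).trans (isConj_iff.2 ⟨hΓ ((witL.getD m (0, 0, 0, 0)).2.2.1 - 1), ?_⟩)
        rw [← hzp, ← hz, ← hcode _ (by rw [FusionCertN.McL.cert_length]; omega)] at he
        rw [eq_of_ec he, mul_inv_cancel_right]
  obtain ⟨w, hw, hwk⟩ := List.mem_map.1 hcov
  obtain ⟨m, hm, hme⟩ := List.getElem_of_mem hw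
  exact key m hm y (by rw [List.getD_eq_getElem _ _ hm, hme, hwk, hk'])

theorem centralizer_double_cover {t : mclGroup} (ht : ec t = tC) (ht1 : t ≠ 1)
    (hsq : ∃ g : mclGroup, g * g = t) :
    Cfsg.IsNonsplitDoubleCover ↥(Subgroup.centralizer ({t} : Set mclGroup)) ↥(alternatingGroup (Fin 8)) := by
  classical
  set C := Subgroup.centralizer ({t} : Set mclGroup) with hC
  have hgen : ∀ j : Fin 3, ∃ g : mclGroup, g ∈ C ∧ Rel g (pImg j.val) := by
    intro j
    have hj : cG.getD j.val 0 ∈ cG := by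
      rw [List.getD_eq_getElem _ _ (by rw [sizes.2.2.2.2.2.2.2.2.1]; exact j.2)]; exact List.getElem_mem _
    obtain ⟨g, hg⟩ := kc_exist (sizes.2.2.2.2.2.2.2.2.2.2.1 _ hj)
    have h := List.all_eq_true.1 runAct j.val (List.mem_range.2 j.2)
    rw [Bool.and_eq_true, beq_iff_eq, List.all_eq_true, ← hg, ← ht] at h
    refine ⟨g, Subgroup.mem_centralizer_singleton_iff.2 (eq_of_ec h.1), fun k => ?_⟩
    have hk := h.2 k.val (List.mem_range.2 k.2)
    rw [Bool.and_eq_true, Nat.blt_eq, beq_iff_eq] at hk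
    refine ⟨⟨_, hk.1⟩, Fin.ext ?_, runLab j k⟩
    exact (ec_app g (fpt k)).symm.trans hk.2
  choose gj hgjC hgjR using hgen
  have hrt : Rel t 1 := fun k => ⟨k, (fix_mem ht (fpt k)).2 (by
    show fp k ∈ fixL
    rw [fp, List.getD_eq_getElem _ _ (by rw [sizes.2.2.2.2.2.2.1]; exact k.2)]
    exact List.getElem_mem _), Or.inl (by rw [Equiv.Perm.coe_one, Finset.image_id])⟩
  have htC : t ∈ C := Subgroup.mem_centralizer_singleton_iff.2 rfl
  let M : Subgroup (C × alternatingGroup (Fin 8)) :=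
    { carrier := {x | Rel x.1.1 x.2.1}
      one_mem' := rel_one
      mul_mem' := fun {a b} ha hb => rel_mul ha hb
      inv_mem' := fun {a} ha => rel_inv ha }
  let f1 : M →* C := (MonoidHom.fst C (alternatingGroup (Fin 8))).comp M.subtype
  let f2 : M →* alternatingGroup (Fin 8) := (MonoidHom.snd C (alternatingGroup (Fin 8))).comp M.subtype
  have hf1 : Function.Injective f1 := (injective_iff_map_eq_one f1).2 fun x hx => by
    have hx1 : x.1.1 = 1 := hx
    have hr : Rel x.1.1.1 x.1.2.1 := x.2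
    rw [hx1, Subgroup.coe_one] at hr
    exact Subtype.ext (Prod.ext hx1 (eq_one_of_rel hr))
  have hf2 : Function.Surjective f2 := by
    rw [← MonoidHom.range_eq_top, eq_top_iff]
    intro q _
    have hle := closure_pImg ((f2.range).map (alternatingGroup (Fin 8)).subtype) fun j =>
      ⟨⟨pImg j.val, Equiv.Perm.mem_alternatingGroup.2 (pImg_sign j)⟩,
        ⟨⟨(⟨gj j, hgjC j⟩, ⟨pImg j.val, Equiv.Perm.mem_alternatingGroup.2 (pImg_sign j)⟩), hgjR j⟩, rfl⟩, rfl⟩
    obtain ⟨q', hq', e⟩ := hle q.2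
    rwa [Subtype.ext e] at hq'
  have hA8 : Nat.card (alternatingGroup (Fin 8)) = 20160 := by
    rw [nat_card_alternatingGroup, Nat.card_fin]; rfl
  let tM : M := ⟨(⟨t, htC⟩, 1), hrt⟩
  have htM : tM ∈ f2.ker := rfl
  have htM1 : tM ≠ 1 := fun e => ht1 (congrArg (fun z : M => z.1.1.1) e)
  have hker2 : 2 ≤ Nat.card f2.ker := by
    refine (Subgroup.one_lt_card_iff_ne_bot _).2 fun e => htM1 ?_
    rw [e] at htM; exact Subgroup.mem_bot.1 htM
  have hM : Nat.card M = 20160 * Nat.card f2.ker := by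
    rw [← hA8, ← Nat.card_congr (QuotientGroup.quotientKerEquivOfSurjective f2 hf2).toEquiv]
    exact Subgroup.card_eq_card_quotient_mul_card_subgroup _
  have hMle : Nat.card M ≤ Nat.card C := Nat.card_le_card_of_injective f1 hf1
  have hCle := card_centralizer_le ht
  have hbij : Function.Bijective f1 := (Nat.bijective_iff_injective_and_card f1).2 ⟨hf1, by
    have : Nat.card C ≤ 40320 := hCle
    have : Nat.card M ≥ 40320 := by rw [hM]; omega
    omega⟩
  let e1 : M ≃* C := MulEquiv.ofBijective f1 hbij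
  let ψ : C →* alternatingGroup (Fin 8) := f2.comp e1.symm.toMonoidHom
  have hψ : Function.Surjective ψ := hf2.comp e1.symm.surjective
  have hkerc : Nat.card ψ.ker = 2 := by
    have hC2 : Nat.card C = 20160 * Nat.card ψ.ker := by
      rw [← hA8, ← Nat.card_congr (QuotientGroup.quotientKerEquivOfSurjective ψ hψ).toEquiv]
      exact Subgroup.card_eq_card_quotient_mul_card_subgroup _
    have hker' : 2 ≤ Nat.card ψ.ker := by
      have : Nat.card C = Nat.card M := (Nat.card_congr e1.toEquiv).symm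
      omega
    have : Nat.card C ≤ 40320 := hCle
    omega
  let tc : C := ⟨t, htC⟩
  have htc : tc ∈ Subgroup.center C := Subgroup.mem_center_iff.2 fun c =>
    Subtype.ext (Subgroup.mem_centralizer_singleton_iff.1 c.2)
  have hzle : Subgroup.center C ≤ ψ.ker := fun z hz => by
    rw [MonoidHom.mem_ker]
    have hm : ψ z ∈ Subgroup.center (alternatingGroup (Fin 8)) := Subgroup.mem_center_iff.2 fun q => by
      obtain ⟨c, rfl⟩ := hψ q
      rw [← map_mul, ← map_mul, Subgroup.mem_center_iff.1 hz c]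
    rwa [alternatingGroup.center_eq_bot (by rw [Nat.card_fin]; norm_num), Subgroup.mem_bot] at hm
  have hzeq : Subgroup.center C = ψ.ker := by
    refine Subgroup.eq_of_le_of_card_ge hzle ?_
    rw [hkerc]
    refine (Subgroup.one_lt_card_iff_ne_bot _).2 fun e => ht1 ?_
    rw [e] at htc
    exact congrArg Subtype.val (Subgroup.mem_bot.1 htc)
  refine ⟨hzeq ▸ hkerc, ⟨(QuotientGroup.quotientMulEquivOfEq hzeq).trans
    (QuotientGroup.quotientKerEquivOfSurjective ψ hψ)⟩, fun L hL => ?_⟩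
  obtain ⟨g, hg⟩ := hsq
  have hgC : g ∈ C := Subgroup.mem_centralizer_singleton_iff.2 (by rw [← hg, mul_assoc])
  obtain ⟨⟨z, l⟩, he⟩ := hL.2 (⟨g, hgC⟩ : C)
  have hz2 : (z.1 : C) * z.1 = 1 := by
    have hc : Nat.card (Subgroup.center C) = 2 := hzeq ▸ hkerc
    have h : (⟨z.1, z.2⟩ : ↥(Subgroup.center C)) ^ Nat.card ↥(Subgroup.center C) = 1 := pow_card_eq_one'
    rw [hc, pow_two] at h
    exact congrArg Subtype.val h
  have e : tc = l.1 * l.1 := by
    have he' : (⟨g, hgC⟩ : C) = z.1 * l.1 := he.symm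
    have hcomm : l.1 * (z.1 : C) = z.1 * l.1 := Subgroup.mem_center_iff.1 z.2 l.1
    calc tc = (⟨g, hgC⟩ : C) * ⟨g, hgC⟩ := Subtype.ext hg.symm
      _ = z.1 * (l.1 * z.1) * l.1 := by rw [he']; simp only [mul_assoc]
      _ = (z.1 * z.1) * (l.1 * l.1) := by rw [hcomm]; simp only [mul_assoc]
      _ = _ := by rw [hz2, one_mul]
  have hd : tc ∈ Subgroup.center C ⊓ L := ⟨htc, e ▸ L.mul_mem l.2 l.2⟩
  rw [hL.disjoint.eq_bot, Subgroup.mem_bot] at hd
  exact ht1 (congrArg Subtype.val hd)

theorem doubleCover_congr {H H' K : Type*} [Group H] [Group H'] [Group K] (e : H ≃* H')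
    (h : Cfsg.IsNonsplitDoubleCover H K) : Cfsg.IsNonsplitDoubleCover H' K := by
  obtain ⟨hc, ⟨q⟩, hn⟩ := h
  have hz : (Subgroup.center H).map e.toMonoidHom = Subgroup.center H' := by
    ext y
    obtain ⟨x, rfl⟩ := e.surjective y
    constructor
    · rintro ⟨z, hz, he⟩
      obtain rfl : z = x := e.injective he
      exact Subgroup.mem_center_iff.2 fun w => by
        obtain ⟨w, rfl⟩ := e.surjective w
        rw [← map_mul, ← map_mul, Subgroup.mem_center_iff.1 hz w]
    · intro hy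
      exact ⟨x, Subgroup.mem_center_iff.2 fun w => e.injective (by
        rw [map_mul, map_mul]; exact Subgroup.mem_center_iff.1 hy (e w)), rfl⟩
  refine ⟨?_, ⟨(QuotientGroup.congr _ _ e hz).symm.trans q⟩, fun L hL => hn (L.comap e.toMonoidHom) ?_⟩
  · rw [← hz, Subgroup.card_map_of_injective (f := e.toMonoidHom) e.injective]; exact hc
  · constructor
    · intro a b hab
      have h1 : (⟨⟨e a.1.1, hz ▸ ⟨a.1.1, a.1.2, rfl⟩⟩, ⟨e a.2.1, a.2.2⟩⟩ : Subgroup.center H' × L) =
          ⟨⟨e b.1.1, hz ▸ ⟨b.1.1, b.1.2, rfl⟩⟩, ⟨e b.2.1, b.2.2⟩⟩ := hL.1 (by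
        show e a.1.1 * e a.2.1 = e b.1.1 * e b.2.1
        rw [← map_mul, ← map_mul]; exact congrArg e hab)
      exact Prod.ext (Subtype.ext (e.injective (congrArg (fun p => p.1.1) h1)))
        (Subtype.ext (e.injective (congrArg (fun p => p.2.1) h1)))
    · intro g
      obtain ⟨⟨z, l⟩, hzl⟩ := hL.2 (e g)
      obtain ⟨z', hz', hze⟩ : z.1 ∈ (Subgroup.center H).map e.toMonoidHom := by
        rw [hz]; exact z.2
      refine ⟨(⟨z', hz'⟩, ⟨e.symm l.1, by show e (e.symm l.1) ∈ L; rw [e.apply_symm_apply]; exact l.2⟩), ?_⟩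
      refine e.injective ?_
      show e (z' * e.symm l.1) = e g
      rw [map_mul, e.apply_symm_apply, show e z' = z.1 from hze]
      exact hzl

theorem main : (∀ x y : ↥Spor.McL, orderOf x = 2 → orderOf y = 2 → IsConj x y) ∧
    ∃ t : ↥Spor.McL, orderOf t = 2 ∧ Cfsg.IsNonsplitDoubleCover ↥(Subgroup.centralizer ({t} : Set ↥Spor.McL))
      ↥(alternatingGroup (Fin 8)) := by
  obtain ⟨e⟩ := FusionCertN.McL.nonempty_mcl_equiv
  obtain ⟨t, ht, ht2, ht1, hsq⟩ := exists_t
  have : Fact (Nat.Prime 2) := ⟨Nat.prime_two⟩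
  have hord : orderOf t = 2 := orderOf_eq_prime (by rw [pow_two]; exact ht2) ht1
  refine ⟨fun x y hx hy => ?_, e.symm t, by rw [MulEquiv.orderOf_eq]; exact hord, ?_⟩
  · have h := (involutions_conj ht (x := e x) (by rw [MulEquiv.orderOf_eq]; exact hx)).symm.trans
      (involutions_conj ht (x := e y) (by rw [MulEquiv.orderOf_eq]; exact hy))
    have h' := MonoidHom.map_isConj e.symm.toMonoidHom h
    simpa using h'
  · refine doubleCover_congr ?_ (centralizer_double_cover ht ht1 hsq)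
    refine MulEquiv.mk ⟨fun c => ⟨e.symm c.1, ?_⟩, fun c => ⟨e c.1, ?_⟩, fun c => ?_, fun c => ?_⟩ fun a b => ?_
    · rw [Subgroup.mem_centralizer_singleton_iff, ← map_mul, ← map_mul, Subgroup.mem_centralizer_singleton_iff.1 c.2]
    · have h := congrArg e (Subgroup.mem_centralizer_singleton_iff.1 c.2)
      rw [map_mul, map_mul, e.apply_symm_apply] at h
      exact Subgroup.mem_centralizer_singleton_iff.2 h
    · exact Subtype.ext (e.apply_symm_apply c.1)
    · exact Subtype.ext (e.symm_apply_apply c.1)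
    · exact Subtype.ext (map_mul e.symm a.1 b.1)

end CfsgLib.McLInvol
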